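import Cfsg.Agent.H592.FSFourDefs
import Cfsg.Agent.H955.FSBase
import Cfsg.Agent.H955.FSPlane
import Cfsg.Agent.H955.FSHyp

/-!
# The groups `muS κ QM μ` for `μ` of rank one (T4 of the project FS_even)
-/

set_option autoImplicit false
set_option linter.unusedSectionVars false

universe u

namespace Cfsg.Agent.H869.MuRank

open Cfsg QuadraticMap
open Cfsg.Agent.LieClassical.OrthCore Cfsg.Agent.LieClassical.OrthTrans
open Cfsg.Agent.H955.FS Cfsg.Agent.H592.FSFour

/-- groups of exponent two -/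
theorem fsGood_of_sq {G : Type u} [Group G] [Finite G] (h : ∀ x : G, x * x = 1) :
    FSGood False G := by
  classical
  have := Fintype.ofFinite G
  intro χ hχ
  left
  have h1 : fsi χ = χ 1 := by
    rw [fsi_eq_sum]
    have h2 : ∑ s : G, χ (s * s) = (Nat.card G : ℂ) * χ 1 := by
      rw [Finset.sum_congr rfl (fun s _ => by rw [h s]), Finset.sum_const, Finset.card_univ,
        nsmul_eq_mul, Nat.card_eq_fintype_card]
    rw [h2, ← mul_assoc, inv_mul_cancel₀ Characters.Core.card_ne_zero_complex, one_mul]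
  obtain ⟨n, hn, hn'⟩ := Characters.Core.isIrr_apply_one hχ
  rcases fsi_cases hχ with h3 | h3 | h3
  · rw [h1, hn'] at h3
    have : n = 0 := by exact_mod_cast h3
    omega
  · exact h3
  · rw [h1, hn'] at h3
    have h4 : ((n : ℤ) : ℂ) = ((-1 : ℤ) : ℂ) := by push_cast; exact h3
    have h5 : (n : ℤ) = -1 := by exact_mod_cast h4
    omega

variable {F N M : Type u} [Field F] [Finite F] [CharP F 2] [AddCommGroup N] [Module F N]
  [FiniteDimensional F N] [AddCommGroup M] [Module F M] [FiniteDimensional F M]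
  {κ : QuadraticForm F N} {QM : QuadraticForm F M} {μ : N →ₗ[F] M}

theorem mu_apply (hN : Module.finrank F N = 2) {e x₁ : N} (hex : polar κ e x₁ = 1)
    (hμe : μ e = 0) (v : N) : μ v = polar κ v e • μ x₁ := by
  conv_lhs => rw [Plane.expand hN hex v]
  rw [map_add, map_smul, map_smul, hμe, smul_zero, zero_add]

theorem exists_beta (hκ : Nondeg κ) (hN : Module.finrank F N = 2) {e x₁ : N}
    (hex : polar κ e x₁ = 1) (he : e ≠ 0) (hμe : μ e = 0) (hm : μ x₁ ≠ 0)
    {p : ↥(O κ) × ↥(O QM)} (hp : p ∈ muS κ QM μ) :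
    ∃ β : Fˣ, (p.1 : N ≃ₗ[F] N) e = β • e ∧ (p.2 : M ≃ₗ[F] M) (μ x₁) = β⁻¹ • μ x₁ := by
  have h1 : polar κ e ((p.1 : N ≃ₗ[F] N) e) = 0 := by
    have h2 := (mem_muS.1 hp) e
    rw [hμe, map_zero, mu_apply hN hex hμe] at h2
    have h3 := (smul_eq_zero.1 h2.symm).resolve_right hm
    rwa [polar_comm] at h3
  obtain ⟨s, hs⟩ := Plane.prop_of_polar hκ hN he h1
  have h4 : s * polar κ e ((p.1 : N ≃ₗ[F] N) x₁) = 1 := by
    have h5 := polar_map p.1.2 e x₁
    rw [hs, polar_smul_left, hex, smul_eq_mul] at h5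
    exact h5
  have hs0 : s ≠ 0 := left_ne_zero_of_mul_eq_one h4
  refine ⟨Units.mk0 s hs0, hs, ?_⟩
  rw [(mem_muS.1 hp) x₁, mu_apply hN hex hμe]
  have h6 : polar κ ((p.1 : N ≃ₗ[F] N) x₁) e = s⁻¹ := by
    rw [polar_comm]
    exact eq_inv_of_mul_eq_one_right h4
  rw [h6]
  rfl

theorem finite_equiv (F N : Type u) [Field F] [Finite F] [AddCommGroup N] [Module F N]
    [FiniteDimensional F N] : Finite (N ≃ₗ[F] N) := by
  have : Finite N := Module.finite_of_finite F
  exact Finite.of_injective (fun e : N ≃ₗ[F] N => (e : N → N)) DFunLike.coe_injective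

/-- an element fixing `e` and `x₁` is trivial -/
theorem eq_one_of_fix (hN : Module.finrank F N = 2) {e x₁ : N} (hex : polar κ e x₁ = 1)
    {d : N ≃ₗ[F] N} (h1 : d e = e) (h2 : d x₁ = x₁) : d = 1 := by
  ext v
  rw [Plane.expand hN hex v, map_add, map_smul, map_smul, h1, h2]
  rfl

/-- The nonsingular kernel. -/
theorem rank_one_nonsing (hκ : Nondeg κ) (hN : Module.finrank F N = 2) (hQM : Nondeg QM) {k : ℕ}
    (hM : Module.finrank F M = 2 * k) (h1 : T1.{u} k) (h2 : T2.{u} k) {e x₁ : N}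
    (hex : polar κ e x₁ = 1) (he : e ≠ 0) (hμe : μ e = 0) (hm : μ x₁ ≠ 0) (hκe : κ e ≠ 0) :
    FSGood False (muS κ QM μ) := by
  classical
  have hfN := finite_equiv F N
  have hfM := finite_equiv F M
  -- the stabiliser of `e` in the plane
  have hsq : ∀ x : fixV κ e, x * x = 1 := by
    rintro ⟨d, hd, hde⟩
    apply Subtype.ext
    show d * d = 1
    have h3 : d x₁ = polar κ (d x₁) x₁ • e + x₁ := by
      have h4 := Plane.expand hN hex (d x₁)
      have h5 : polar κ (d x₁) e = 1 := by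
        have h6 := polar_map hd e x₁
        rw [hde, hex, polar_comm] at h6
        exact h6
      rw [h5, one_smul] at h4
      exact h4
    refine eq_one_of_fix hN hex ?_ ?_
    · show d (d e) = e
      rw [hde, hde]
    · show d (d x₁) = x₁
      rw [h3, map_add, map_smul, hde]
      have h7 : d x₁ - polar κ (d x₁) x₁ • e = x₁ := by
        conv_lhs => rw [h3]
        rw [polar_add_left, polar_smul_left, hex, Plane.polar_self0 x₁]
        simp
      have h8 : polar κ (d x₁) x₁ • e + d x₁ = d x₁ - polar κ (d x₁) x₁ • e := by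
        have h9 : (2 : F) • (polar κ (d x₁) x₁ • e) = 0 := by
          rw [CharTwo.two_eq_zero, zero_smul]
        rw [two_smul] at h9
        rw [sub_eq_add_neg, add_comm, ← eq_neg_of_add_eq_zero_left h9]
      rw [h8, h7]
  have hgood1 : FSGood False (fixV κ e) := fsGood_of_sq hsq
  have hgood2 : FSGood False (fixV QM (μ x₁)) := by
    by_cases h : QM (μ x₁) = 0
    · exact h1 F M QM hQM hM _ hm h
    · exact h2 F M QM hQM hM _ h
  let f : (fixV κ e) × (fixV QM (μ x₁)) →* muS κ QM μ :=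
    { toFun := fun q => ⟨(⟨q.1.1, q.1.2.1⟩, ⟨q.2.1, q.2.2.1⟩), by
        intro v
        show (q.2 : M ≃ₗ[F] M) (μ v) = μ ((q.1 : N ≃ₗ[F] N) v)
        rw [mu_apply hN hex hμe v, mu_apply hN hex hμe ((q.1 : N ≃ₗ[F] N) v), map_smul, q.2.2.2]
        congr 1
        have h3 := polar_map q.1.2.1 v e
        rw [q.1.2.2] at h3
        exact h3.symm⟩
      map_one' := rfl
      map_mul' := fun _ _ => rfl }
  refine FSGood.of_surjective f ?_ (hgood1.prod hgood2)
  rintro ⟨⟨⟨d, hd⟩, ⟨h, hh⟩⟩, hp⟩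
  obtain ⟨β, hβ1, hβ2⟩ := exists_beta hκ hN hex he hμe hm hp
  have hβ : β = 1 := by
    have h3 : κ (d e) = κ e := hd e
    have h4 : d e = (β : F) • e := hβ1
    rw [h4, QuadraticMap.map_smul, smul_eq_mul] at h3
    have h5 : ((β : F) - 1) * ((β : F) - 1) = 0 := by
      have h6 : ((β : F) * β - 1) * κ e = 0 := by linear_combination h3
      have h7 := (mul_eq_zero.1 h6).resolve_right hκe
      have h8 : (2 : F) = 0 := CharTwo.two_eq_zero
      linear_combination h7 + (1 - (β : F)) * h8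
    exact Units.ext (sub_eq_zero.1 (mul_self_eq_zero.1 h5))
  subst hβ
  refine ⟨(⟨d, hd, ?_⟩, ⟨h, hh, ?_⟩), rfl⟩
  · exact hβ1.trans (one_smul _ _)
  · exact hβ2.trans (by rw [inv_one]; exact one_smul _ _)

/-- injectivity of the second projection for a singular kernel -/
theorem eq_one_of_snd (hκ : Nondeg κ) (hN : Module.finrank F N = 2) {e x₁ : N}
    (hh : Hyp κ e x₁) (hμe : μ e = 0) (hm : μ x₁ ≠ 0)
    {p : ↥(O κ) × ↥(O QM)} (hp : p ∈ muS κ QM μ) (h2 : (p.2 : M ≃ₗ[F] M) = 1) : p = 1 := by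
  obtain ⟨β, hβ1, hβ2⟩ := exists_beta hκ hN hh.pair hh.left_ne hμe hm hp
  have hβ : β = 1 := by
    rw [h2] at hβ2
    have h3 : μ x₁ = ((β⁻¹ : Fˣ) : F) • μ x₁ := hβ2
    have h4 : (1 - ((β⁻¹ : Fˣ) : F)) • μ x₁ = 0 := by
      rw [sub_smul, one_smul, ← h3, sub_self]
    have h5 := (smul_eq_zero.1 h4).resolve_right hm
    have h6 : β⁻¹ = 1 := Units.ext (sub_eq_zero.1 h5).symm
    exact inv_eq_one.1 h6
  subst hβ
  rw [one_smul] at hβ1
  have h3 : (p.1 : N ≃ₗ[F] N) x₁ = x₁ := by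
    have h4 := Plane.expand hN hh.pair ((p.1 : N ≃ₗ[F] N) x₁)
    have h5 : polar κ ((p.1 : N ≃ₗ[F] N) x₁) e = 1 := by
      have h6 := polar_map p.1.2 e x₁
      rw [hβ1, hh.pair, polar_comm] at h6
      exact h6
    rw [h5, one_smul] at h4
    have h7 : κ ((p.1 : N ≃ₗ[F] N) x₁) = 0 := (p.1.2 x₁).trans hh.right
    rw [h4, Q_add, QuadraticMap.map_smul, hh.left, hh.right, polar_smul_left, hh.pair,
      smul_zero, zero_add, zero_add, smul_eq_mul, mul_one] at h7
    rw [h7, zero_smul, zero_add] at h4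
    exact h4
  have h4 : (p.1 : N ≃ₗ[F] N) = 1 := eq_one_of_fix hN hh.pair hβ1 h3
  exact Prod.ext (Subtype.ext h4) (Subtype.ext h2)

/-- The singular kernel, singular image. -/
theorem rank_one_sing_sing (hκ : Nondeg κ) (hN : Module.finrank F N = 2) (hQM : Nondeg QM) {k : ℕ}
    (hM : Module.finrank F M = 2 * k) (h3 : T3.{u} k) {e x₁ : N}
    (hh : Hyp κ e x₁) (hμe : μ e = 0) (hm : μ x₁ ≠ 0) (hs : QM (μ x₁) = 0) :
    FSGood True (muS κ QM μ) := by
  have hfN := finite_equiv F N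
  have hfM := finite_equiv F M
  let f : muS κ QM μ →* lineV QM (μ x₁) :=
    { toFun := fun q => ⟨q.1.2, q.1.2.2, by
        obtain ⟨β, -, hβ⟩ := exists_beta hκ hN hh.pair hh.left_ne hμe hm q.2
        exact ⟨β⁻¹, hβ⟩⟩
      map_one' := rfl
      map_mul' := fun _ _ => rfl }
  have hinj : Function.Injective f := by
    rw [injective_iff_map_eq_one]
    intro q hq
    exact Subtype.ext (eq_one_of_snd hκ hN hh hμe hm q.2 (congrArg Subtype.val hq))
  have hsurj : Function.Surjective f := by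
    rintro ⟨h, hh1, β, hβ⟩
    have hd : lev hh (1, β⁻¹) ∈ O κ := (lev_mem_O hh).2 (one_mem _)
    have hde : lev hh (1, β⁻¹) e = β⁻¹ • e := lev_x hh _
    refine ⟨⟨(⟨lev hh (1, β⁻¹), hd⟩, ⟨h, hh1⟩), ?_⟩, rfl⟩
    intro v
    show h (μ v) = μ (lev hh (1, β⁻¹) v)
    rw [mu_apply hN hh.pair hμe v, mu_apply hN hh.pair hμe (lev hh (1, β⁻¹) v), map_smul, hβ]
    have h4 := polar_map hd v e
    rw [hde] at h4
    have h5 : polar κ (lev hh (1, β⁻¹) v) ((β⁻¹ : Fˣ) • e) =
        ((β⁻¹ : Fˣ) : F) * polar κ (lev hh (1, β⁻¹) v) e := polar_smul_right _ _ _ _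
    rw [h5] at h4
    have h6 : polar κ (lev hh (1, β⁻¹) v) e = (β : F) * polar κ v e := by
      rw [← h4, ← mul_assoc, ← Units.val_mul, mul_inv_cancel, Units.val_one, one_mul]
    rw [h6, Units.smul_def, smul_smul, mul_comm]
  exact FSGood.of_mulEquiv (MulEquiv.ofBijective f ⟨hinj, hsurj⟩).symm
    (h3 F M QM hQM hM _ hm hs)

/-- The singular kernel, nonsingular image. -/
theorem rank_one_sing_nonsing (hκ : Nondeg κ) (hN : Module.finrank F N = 2) (hQM : Nondeg QM)
    {k : ℕ} (hM : Module.finrank F M = 2 * k) (h2 : T2.{u} k) {e x₁ : N}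
    (hh : Hyp κ e x₁) (hμe : μ e = 0) (hs : QM (μ x₁) ≠ 0) :
    FSGood False (muS κ QM μ) := by
  have hfN := finite_equiv F N
  have hfM := finite_equiv F M
  have hm : μ x₁ ≠ 0 := by
    intro h
    rw [h, QuadraticMap.map_zero] at hs
    exact hs rfl
  let f : muS κ QM μ →* fixV QM (μ x₁) :=
    { toFun := fun q => ⟨q.1.2, q.1.2.2, by
        obtain ⟨β, -, hβ⟩ := exists_beta hκ hN hh.pair hh.left_ne hμe hm q.2
        have h3 : QM ((q.1.2 : M ≃ₗ[F] M) (μ x₁)) = QM (μ x₁) := q.1.2.2 _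
        have h4 : (q.1.2 : M ≃ₗ[F] M) (μ x₁) = ((β⁻¹ : Fˣ) : F) • μ x₁ := hβ
        rw [h4, QuadraticMap.map_smul, smul_eq_mul] at h3
        have h5 : (((β⁻¹ : Fˣ) : F) - 1) * (((β⁻¹ : Fˣ) : F) - 1) = 0 := by
          have h6 : (((β⁻¹ : Fˣ) : F) * ((β⁻¹ : Fˣ) : F) - 1) * QM (μ x₁) = 0 := by
            linear_combination h3
          have h7 := (mul_eq_zero.1 h6).resolve_right hs
          have h8 : (2 : F) = 0 := CharTwo.two_eq_zero
          linear_combination h7 + (1 - ((β⁻¹ : Fˣ) : F)) * h8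
        rw [h4, sub_eq_zero.1 (mul_self_eq_zero.1 h5), one_smul]⟩
      map_one' := rfl
      map_mul' := fun _ _ => rfl }
  have hinj : Function.Injective f := by
    rw [injective_iff_map_eq_one]
    intro q hq
    exact Subtype.ext (eq_one_of_snd hκ hN hh hμe hm q.2 (congrArg Subtype.val hq))
  have hsurj : Function.Surjective f := by
    rintro ⟨h, hh1, hβ⟩
    refine ⟨⟨(1, ⟨h, hh1⟩), ?_⟩, rfl⟩
    intro v
    show h (μ v) = μ v
    rw [mu_apply hN hh.pair hμe v, map_smul, hβ]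
  exact FSGood.of_mulEquiv (MulEquiv.ofBijective f ⟨hinj, hsurj⟩).symm
    (h2 F M QM hQM hM _ hs)

/-- **Rank one.** -/
theorem muS_rank_one (κ : QuadraticForm F N) (hκ : Nondeg κ) (hN : Module.finrank F N = 2)
    (QM : QuadraticForm F M) (hQM : Nondeg QM) {k : ℕ} (hM : Module.finrank F M = 2 * k)
    (μ : N →ₗ[F] M) (h1 : T1.{u} k) (h2 : T2.{u} k) (h3 : T3.{u} k) {e : N} (he : e ≠ 0)
    (hμe : μ e = 0) (hμ : μ ≠ 0) : FSGood (∃ x : N, x ≠ 0 ∧ κ x = 0) (muS κ QM μ) := by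
  obtain ⟨x₀, hx₀⟩ := Plane.exists_pair hκ he
  have hm : ∀ x : N, polar κ e x = 1 → μ x ≠ 0 := by
    intro x hx h
    apply hμ
    ext v
    rw [mu_apply hN hx hμe, h, smul_zero]
    rfl
  by_cases hκe : κ e = 0
  · let x₁ : N := x₀ + κ x₀ • e
    have hh : Hyp κ e x₁ := by
      refine ⟨hκe, ?_, ?_⟩
      · show κ (x₀ + κ x₀ • e) = 0
        rw [Q_add, QuadraticMap.map_smul, hκe, smul_zero, add_zero, polar_smul_right, polar_comm,
          hx₀, smul_eq_mul, mul_one]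
        exact CharTwo.add_self_eq_zero _
      · show polar κ e (x₀ + κ x₀ • e) = 1
        rw [polar_add_right, polar_smul_right, hx₀, Plane.polar_self0, smul_zero, add_zero]
    by_cases hs : QM (μ x₁) = 0
    · exact (rank_one_sing_sing hκ hN hQM hM h3 hh hμe (hm x₁ hh.pair) hs).mono
        (fun _ => ⟨e, he, hκe⟩)
    · exact (rank_one_sing_nonsing hκ hN hQM hM h2 hh hμe hs).mono (fun h => h.elim)
  · exact (rank_one_nonsing hκ hN hQM hM h1 h2 hx₀ he hμe (hm x₀ hx₀) hκe).mono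
      (fun h => h.elim)

end Cfsg.Agent.H869.MuRank
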